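import Groth.Agent.L14.Popescu.Solutions
import Mathlib.RingTheory.EssentialFiniteness
import Mathlib.RingTheory.AdicCompletion.LocalRing
import Mathlib.RingTheory.AdicCompletion.RingHom

/-!
# Approximating a point in the completion by a point, with functoriality of completions
-/

set_option autoImplicit false
set_option linter.style.haveILetI false
universe u

open IsLocalRing

namespace Groth.L05.NodeRetract

/-- An `R̂`-valued point of an algebra essentially of finite type can be approximated by an `R`-valued one. -/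
theorem exists_algHom_approx (R : Type u) [CommRing R] [IsNoetherianRing R] [HenselianLocalRing R]
    (hG : CAlg.IsGRing R) (C : Type u) [CommRing C] [IsLocalRing C] [Algebra R C] [Algebra.EssFiniteType R C]
    (γ : C →ₐ[R] AdicCompletion (maximalIdeal R) R) [IsLocalHom γ.toRingHom] (N : ℕ) (hN : 1 ≤ N) :
    ∃ g : C →ₐ[R] R, ∀ x, γ x - algebraMap R _ (g x) ∈
      maximalIdeal (AdicCompletion (maximalIdeal R) R) ^ N := by
  classical
  let T := AdicCompletion (maximalIdeal R) R
  let A0 := Algebra.EssFiniteType.subalgebra R C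
  obtain ⟨n, p, hp⟩ := Algebra.FiniteType.iff_quotient_mvPolynomial''.mp (inferInstance : Algebra.FiniteType R A0)
  obtain ⟨S, hS⟩ := Ideal.fg_of_isNoetherianRing (RingHom.ker p.toRingHom)
  let e := S.equivFin
  let γ0 : A0 →ₐ[R] T := γ.comp A0.val
  let a : Fin n → T := fun i => γ0 (p (MvPolynomial.X i))
  have hae : MvPolynomial.aeval a = γ0.comp p := MvPolynomial.algHom_ext fun i => by simp [a]
  have ha : ∀ j, MvPolynomial.aeval a (e.symm j).1 = 0 := fun j => by
    have hj : p (e.symm j).1 = 0 := hS.le (Ideal.subset_span (e.symm j).2)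
    rw [hae, AlgHom.comp_apply, hj, map_zero]
  obtain ⟨b, hb, hab⟩ := Groth.L14.Popescu.exists_solution_of_henselian (maximalIdeal R)
    (Groth.Agent.S0600.result R hG _) (fun j => (e.symm j).1) a ha N
  have hker : RingHom.ker p.toRingHom ≤ RingHom.ker (MvPolynomial.aeval b : MvPolynomial (Fin n) R →ₐ[R] R).toRingHom := by
    rw [← hS, Ideal.span_le]
    intro f hf
    have h := hb (e ⟨f, hf⟩)
    rw [Equiv.symm_apply_apply] at h
    show MvPolynomial.aeval b f = 0
    rw [MvPolynomial.aeval_eq_eval]
    exact h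
  let g0 : A0 →ₐ[R] R := AlgHom.liftOfSurjective p hp (MvPolynomial.aeval b) hker
  have hg0 : ∀ q, g0 (p q) = MvPolynomial.aeval b q := fun q =>
    AlgHom.liftOfSurjective_apply p hp _ hker q
  let I := maximalIdeal T ^ N
  let π : T →ₐ[R] T ⧸ I := Ideal.Quotient.mkₐ R I
  let ι : R →ₐ[R] T := Algebra.ofId R T
  have hcomp : π.comp γ0 = π.comp (ι.comp g0) := by
    have h : (π.comp γ0).comp p = (π.comp (ι.comp g0)).comp p := MvPolynomial.algHom_ext fun i => by
      show Ideal.Quotient.mk I (a i) = Ideal.Quotient.mk I (algebraMap R T (g0 (p (MvPolynomial.X i))))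
      rw [hg0, MvPolynomial.aeval_X, Ideal.Quotient.eq]
      have := hab i
      rwa [Ideal.map_pow, ← AdicCompletion.maximalIdeal_eq_map] at this
    exact AlgHom.ext fun x => by obtain ⟨q, rfl⟩ := hp x; exact AlgHom.congr_fun h q
  have hunit : ∀ s : Algebra.EssFiniteType.submonoid R C, IsUnit (g0 s.1) := by
    intro s
    have hs : IsUnit (γ0 s.1) := (IsLocalization.map_units C s).map γ
    by_contra hnu
    have h1 : algebraMap R T (g0 s.1) ∈ maximalIdeal T := by
      rw [AdicCompletion.maximalIdeal_eq_map]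
      exact Ideal.mem_map_of_mem _ hnu
    have h2 : γ0 s.1 - algebraMap R T (g0 s.1) ∈ maximalIdeal T :=
      Ideal.pow_le_self (by omega) (Ideal.Quotient.eq.mp (AlgHom.congr_fun hcomp s.1))
    have := add_mem h2 h1
    rw [sub_add_cancel] at this
    exact this hs
  let g : C →ₐ[R] R := IsLocalization.liftAlgHom (M := Algebra.EssFiniteType.submonoid R C) hunit
  refine ⟨g, fun x => Ideal.Quotient.eq.mp ?_⟩
  have hall : (π.comp γ).toRingHom = (π.comp (ι.comp g)).toRingHom := by
    refine IsLocalization.ringHom_ext (Algebra.EssFiniteType.submonoid R C) (RingHom.ext fun y => ?_)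
    show π (γ (algebraMap A0 C y)) = π (ι (g (algebraMap A0 C y)))
    rw [show g (algebraMap A0 C y) = g0 y from IsLocalization.lift_eq _ y]
    exact AlgHom.congr_fun hcomp y
  exact RingHom.congr_fun hall x

theorem exists_sub_algebraMap_mem_pow (C : Type u) [CommRing C] [IsNoetherianRing C] [IsLocalRing C]
    (x : AdicCompletion (maximalIdeal C) C) (n : ℕ) :
    ∃ c : C, x - algebraMap C _ c ∈ maximalIdeal (AdicCompletion (maximalIdeal C) C) ^ n := by
  obtain ⟨c, hc⟩ := Ideal.Quotient.mk_surjective (AdicCompletion.evalₐ (maximalIdeal C) n x)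
  refine ⟨c, ?_⟩
  rw [AdicCompletion.maximalIdeal_eq_map, ← Ideal.map_pow, ← Submodule.restrictScalars_mem C,
    ← Ideal.smul_top_eq_map, AdicCompletion.pow_smul_top_eq_ker_eval (maximalIdeal C).fg_of_isNoetherianRing,
    LinearMap.mem_ker]
  have h0 : AdicCompletion.evalₐ (maximalIdeal C) n (x - algebraMap C _ c) = 0 := by
    rw [map_sub, AlgHom.commutes, ← hc]; exact sub_self _
  rw [← AdicCompletion.factor_evalₐ_eq_eval (maximalIdeal C) _ (le_of_eq (Ideal.mul_top _).symm), h0, map_zero]

/-- A local homomorphism extends to completions. -/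
theorem exists_completion_hom (C R : Type u) [CommRing C] [IsNoetherianRing C] [IsLocalRing C]
    [CommRing R] [IsNoetherianRing R] [IsLocalRing R] (g : C →+* R) [IsLocalHom g] :
    ∃ G : AdicCompletion (maximalIdeal C) C →+* AdicCompletion (maximalIdeal R) R,
      G.comp (algebraMap C _) = (algebraMap R _).comp g := by
  let T := AdicCompletion (maximalIdeal R) R
  let h : C →+* T := (algebraMap R T).comp g
  have hm : ∀ n, maximalIdeal C ^ n ≤ (maximalIdeal T ^ n).comap h := by
    intro n
    refine (Ideal.pow_right_mono (fun c hc => ?_) n).trans (Ideal.le_comap_pow h n)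
    show algebraMap R T (g c) ∈ maximalIdeal T
    rw [AdicCompletion.maximalIdeal_eq_map]
    exact Ideal.mem_map_of_mem _ (fun hu => hc (IsLocalHom.map_nonunit c hu))
  let f : ∀ n, AdicCompletion (maximalIdeal C) C →+* T ⧸ maximalIdeal T ^ n := fun n =>
    (Ideal.quotientMap (maximalIdeal T ^ n) h (hm n)).comp (AdicCompletion.evalₐ (maximalIdeal C) n).toRingHom
  have hf : ∀ {m n : ℕ} (hle : m ≤ n), (Ideal.Quotient.factorPow (maximalIdeal T) hle).comp (f n) = f m := by
    intro m n hle
    refine RingHom.ext fun x => ?_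
    obtain ⟨c, hc⟩ := exists_sub_algebraMap_mem_pow C x n
    obtain ⟨z, rfl⟩ : ∃ z, x = algebraMap C _ c + z := ⟨x - algebraMap C _ c, by ring⟩
    rw [add_sub_cancel_left] at hc
    have hz : ∀ k ≤ n, AdicCompletion.evalₐ (maximalIdeal C) k z = 0 := by
      intro k hk
      have h2 : z ∈ (maximalIdeal C ^ k).map (algebraMap C _) := by
        rw [Ideal.map_pow, ← AdicCompletion.maximalIdeal_eq_map]; exact Ideal.pow_le_pow_right hk hc
      refine (Ideal.map_le_iff_le_comap.mpr ?_ : (maximalIdeal C ^ k).map (algebraMap C _) ≤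
        RingHom.ker (AdicCompletion.evalₐ (maximalIdeal C) k).toRingHom) h2
      intro a ha
      show AdicCompletion.evalₐ (maximalIdeal C) k (algebraMap C _ a) = 0
      rw [AlgHom.commutes]
      exact Ideal.Quotient.eq_zero_iff_mem.mpr ha
    simp only [f, RingHom.comp_apply, map_add]
    show Ideal.Quotient.factorPow _ hle (Ideal.quotientMap _ h _ (AdicCompletion.evalₐ _ n (algebraMap C _ c))) +
      Ideal.Quotient.factorPow _ hle (Ideal.quotientMap _ h _ (AdicCompletion.evalₐ _ n z)) =
      Ideal.quotientMap _ h _ (AdicCompletion.evalₐ _ m (algebraMap C _ c)) +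
      Ideal.quotientMap _ h _ (AdicCompletion.evalₐ _ m z)
    rw [hz n le_rfl, hz m hle, AlgHom.commutes, AlgHom.commutes, map_zero, map_zero, map_zero]
    rfl
  refine ⟨IsAdicComplete.liftRingHom (maximalIdeal T) f hf, RingHom.ext fun c => ?_⟩
  refine sub_eq_zero.mp (IsHausdorff.haus (inferInstance : IsHausdorff (maximalIdeal T) T) _ fun n => ?_)
  rw [SModEq.zero, smul_eq_mul, Ideal.mul_top, ← Ideal.Quotient.eq, RingHom.comp_apply,
    IsAdicComplete.mk_liftRingHom]
  show Ideal.quotientMap _ h (hm n) (AdicCompletion.evalₐ (maximalIdeal C) n (algebraMap C _ c)) = _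
  rw [AlgHom.commutes]
  rfl

/-- Homomorphisms of completions are continuous. -/
theorem sub_mem_pow_of_agree {C : Type u} [CommRing C] [IsNoetherianRing C] [IsLocalRing C]
    {T : Type u} [CommRing T] [IsLocalRing T] (G G' : AdicCompletion (maximalIdeal C) C →+* T)
    [IsLocalHom G] [IsLocalHom G'] (N : ℕ)
    (h : ∀ c, G (algebraMap C _ c) - G' (algebraMap C _ c) ∈ maximalIdeal T ^ N)
    (x : AdicCompletion (maximalIdeal C) C) : G x - G' x ∈ maximalIdeal T ^ N := by
  obtain ⟨c, hc⟩ := exists_sub_algebraMap_mem_pow C x N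
  have hmap : ∀ (H : AdicCompletion (maximalIdeal C) C →+* T), IsLocalHom H →
      H (x - algebraMap C _ c) ∈ maximalIdeal T ^ N := fun H hH => by
    have hle : (maximalIdeal (AdicCompletion (maximalIdeal C) C)).map H ≤ maximalIdeal T := by
      rw [Ideal.map_le_iff_le_comap]
      exact fun z hz => fun hu => hz (hH.map_nonunit z hu)
    refine Ideal.pow_right_mono hle N ?_
    rw [← Ideal.map_pow]
    exact Ideal.mem_map_of_mem H hc
  have := add_mem (sub_mem (hmap G ‹_›) (hmap G' ‹_›)) (h c)
  convert this using 1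
  rw [map_sub, map_sub]; ring

end Groth.L05.NodeRetract
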