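import Groth.Agent.L05.NodeRetract.Approx
import Groth.Agent.L12.PowSer
import Groth.Agent.L01.AnalUnram
import Groth.Prelude.Def_EGA4b
import Mathlib.RingTheory.UniqueFactorizationDomain.Finite
import Mathlib.RingTheory.Filtration

/-!
# Retractions of a node realizing a given factorization
-/

set_option autoImplicit false
set_option linter.style.haveILetI false
universe u

open IsLocalRing MvPowerSeries

namespace Groth.L05.NodeRetract

/-- Two factors of a fixed element are separated by a power of the maximal ideal. -/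
theorem exists_pow_separating (T : Type u) [CommRing T] [IsNoetherianRing T] [IsLocalRing T] [IsDomain T]
    [UniqueFactorizationMonoid T] (Δ t : T) (hΔ : Δ ≠ 0) :
    ∃ N : ℕ, ∀ a, a ∣ Δ → a - t ∈ maximalIdeal T ^ N → a ∣ t := by
  classical
  have hΔ' : Associates.mk Δ ≠ 0 := Associates.mk_ne_zero.mpr hΔ
  haveI : Fintype (Associates T)ˣ := Fintype.ofSubsingleton 1
  haveI : Fintype {d : Associates T // d ∣ Associates.mk Δ} :=
    UniqueFactorizationMonoid.fintypeSubtypeDvd _ hΔ'
  have hex : ∀ d : {d : Associates T // d ∣ Associates.mk Δ}, ∃ M : ℕ, ∀ a, Associates.mk a = d.1 →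
      t ∈ Ideal.span {a} ⊔ maximalIdeal T ^ M → a ∣ t := by
    intro d
    obtain ⟨a0, ha0⟩ := Associates.mk_surjective d.1
    by_cases hdvd : a0 ∣ t
    · exact ⟨0, fun a ha _ => (Associates.mk_eq_mk_iff_associated.mp (ha.trans ha0.symm)).dvd.trans hdvd⟩
    have htop : Ideal.span {a0} ≠ ⊤ := fun h =>
      hdvd ((Ideal.span_singleton_eq_top.mp h).dvd)
    haveI : Nontrivial (T ⧸ Ideal.span {a0}) := Ideal.Quotient.nontrivial_iff.mpr htop
    haveI : IsLocalRing (T ⧸ Ideal.span {a0}) := IsLocalRing.of_surjective' _ Ideal.Quotient.mk_surjective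
    have h0 : Ideal.Quotient.mk (Ideal.span {a0}) t ≠ 0 := fun h =>
      hdvd (Ideal.mem_span_singleton.mp (Ideal.Quotient.eq_zero_iff_mem.mp h))
    have hinf := Ideal.iInf_pow_eq_bot_of_isLocalRing (maximalIdeal (T ⧸ Ideal.span {a0}))
      (maximalIdeal.isMaximal _).ne_top
    obtain ⟨M, hM⟩ : ∃ M : ℕ, Ideal.Quotient.mk (Ideal.span {a0}) t ∉ maximalIdeal (T ⧸ Ideal.span {a0}) ^ M := by
      by_contra hall
      push Not at hall
      exact h0 (Ideal.mem_bot.mp (hinf.le (Ideal.mem_iInf.mpr hall)))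
    refine ⟨M, fun a ha htm => absurd ?_ hM⟩
    obtain ⟨x, hx, y, hy, rfl⟩ := Submodule.mem_sup.mp htm
    obtain ⟨z, rfl⟩ := Ideal.mem_span_singleton.mp hx
    have hae : Ideal.Quotient.mk (Ideal.span {a0}) a = 0 := Ideal.Quotient.eq_zero_iff_mem.mpr
      (Ideal.mem_span_singleton.mpr (Associates.mk_eq_mk_iff_associated.mp (ha0.trans ha.symm)).dvd)
    rw [map_add, map_mul, hae, zero_mul, zero_add]
    refine Ideal.pow_right_mono ?_ M ((Ideal.map_pow (Ideal.Quotient.mk (Ideal.span {a0})) (maximalIdeal T) M) ▸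
      Ideal.mem_map_of_mem _ hy)
    rw [Ideal.map_le_iff_le_comap]
    haveI : IsLocalHom (Ideal.Quotient.mk (Ideal.span {a0})) :=
      IsLocalHom.of_surjective _ Ideal.Quotient.mk_surjective
    exact fun w hw hu => hw (IsLocalHom.map_nonunit (f := Ideal.Quotient.mk (Ideal.span {a0})) w hu)
  choose M hM using hex
  refine ⟨Finset.univ.sup M, fun a ha hat => ?_⟩
  refine hM ⟨Associates.mk a, Associates.mk_dvd_mk.mpr ha⟩ a rfl ?_
  rw [show t = a - (a - t) by ring]
  exact sub_mem (Ideal.mem_sup_left (Ideal.mem_span_singleton_self a))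
    (Ideal.mem_sup_right (Ideal.pow_le_pow_right (Finset.le_sup (Finset.mem_univ _)) hat))

theorem exists_retraction (R : Type u) [CommRing R] [IsNoetherianRing R] [HenselianLocalRing R]
    (hR : EGA4.IsExcellent R)
    [IsDomain (AdicCompletion (maximalIdeal R) R)] [UniqueFactorizationMonoid (AdicCompletion (maximalIdeal R) R)]
    (Δ t₁ t₂ : R) (hΔ : Δ ≠ 0) (ht₁ : t₁ ∈ maximalIdeal R) (ht₂ : t₂ ∈ maximalIdeal R) (ht : t₁ * t₂ = Δ)
    (C : Type u) [CommRing C] [IsLocalRing C] [Algebra R C] [IsLocalHom (algebraMap R C)]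
    [Algebra.EssFiniteType R C]
    (ψ : AdicCompletion (maximalIdeal C) C ≃+*
      (MvPowerSeries (Fin 2) (AdicCompletion (maximalIdeal R) R) ⧸
        Ideal.span {(X 0 * X 1 - MvPowerSeries.C (algebraMap R (AdicCompletion (maximalIdeal R) R) Δ) :
          MvPowerSeries (Fin 2) (AdicCompletion (maximalIdeal R) R))}))
    (hψ : ψ.toRingHom.comp ((algebraMap C (AdicCompletion (maximalIdeal C) C)).comp (algebraMap R C)) =
      (Ideal.Quotient.mk _).comp ((MvPowerSeries.C : AdicCompletion (maximalIdeal R) R →+*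
        MvPowerSeries (Fin 2) (AdicCompletion (maximalIdeal R) R)).comp
          (algebraMap R (AdicCompletion (maximalIdeal R) R)))) :
    ∃ (g : C →ₐ[R] R) (ĝ : AdicCompletion (maximalIdeal C) C →+* AdicCompletion (maximalIdeal R) R),
      ĝ.comp (algebraMap C (AdicCompletion (maximalIdeal C) C)) =
        (algebraMap R (AdicCompletion (maximalIdeal R) R)).comp g.toRingHom ∧
      Ideal.span {ĝ (ψ.symm (Ideal.Quotient.mk _ (X 0)))} =
        Ideal.span {algebraMap R (AdicCompletion (maximalIdeal R) R) t₁} ∧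
      Ideal.span {ĝ (ψ.symm (Ideal.Quotient.mk _ (X 1)))} =
        Ideal.span {algebraMap R (AdicCompletion (maximalIdeal R) R) t₂} := by
  classical
  haveI : IsNoetherianRing C := Algebra.EssFiniteType.isNoetherianRing R C
  let T := AdicCompletion (maximalIdeal R) R
  haveI : IsNoetherianRing T := Groth.L01.AnalUnram.isNoetherianRing_completion R
  let ι := algebraMap R T
  let s : Fin 2 → T := ![ι t₁, ι t₂]
  have hs : ∀ i, s i ∈ maximalIdeal T := fun i => by
    rw [AdicCompletion.maximalIdeal_eq_map]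
    fin_cases i
    · exact Ideal.mem_map_of_mem _ ht₁
    · exact Ideal.mem_map_of_mem _ ht₂
  obtain ⟨φ, hφ⟩ := Groth.L12.exists_evalPS (R := T) (maximalIdeal T) s hs
  have hφC : ∀ r : T, φ (MvPowerSeries.C r) = r := fun r => φ.commutes r
  let P : MvPowerSeries (Fin 2) T := X 0 * X 1 - MvPowerSeries.C (ι Δ)
  have hker : Ideal.span {P} ≤ RingHom.ker φ.toRingHom := by
    rw [Ideal.span_singleton_le_iff_mem, RingHom.mem_ker]
    show φ (X 0 * X 1 - MvPowerSeries.C (ι Δ)) = 0
    rw [map_sub, map_mul, hφ, hφ, hφC]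
    show ι t₁ * ι t₂ - ι Δ = 0
    rw [← map_mul, ht, sub_self]
  let φq : (MvPowerSeries (Fin 2) T ⧸ Ideal.span {P}) →+* T := Ideal.Quotient.lift _ φ.toRingHom hker
  let G0 : AdicCompletion (maximalIdeal C) C →+* T := φq.comp ψ.toRingHom
  have hG0surj : Function.Surjective G0 := fun r =>
    ⟨ψ.symm (Ideal.Quotient.mk _ (MvPowerSeries.C r)), by
      show φq (ψ (ψ.symm _)) = r
      rw [RingEquiv.apply_symm_apply]; exact hφC r⟩
  haveI : IsLocalHom G0 := IsLocalHom.of_surjective _ hG0surj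
  have hG0R : ∀ r, G0 (algebraMap C _ (algebraMap R C r)) = ι r := fun r => by
    have h := RingHom.congr_fun hψ r
    show φq (ψ _) = _
    rw [show ψ (algebraMap C (AdicCompletion (maximalIdeal C) C) (algebraMap R C r)) =
      Ideal.Quotient.mk _ (MvPowerSeries.C (ι r)) from h]
    exact hφC _
  let γ : C →ₐ[R] T := ⟨G0.comp (algebraMap C _), hG0R⟩
  haveI : IsLocalHom γ.toRingHom :=
    ⟨fun c hc => IsLocalHom.map_nonunit (f := algebraMap C (AdicCompletion (maximalIdeal C) C)) c
      (IsLocalHom.map_nonunit (f := G0) _ hc)⟩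
  have hιinj : Function.Injective ι :=
    fun a b h => AdicCompletion.of_injective (maximalIdeal R) R h
  have hΔT : ι Δ ≠ 0 := (map_ne_zero_iff _ hιinj).mpr hΔ
  obtain ⟨N₁, hN₁⟩ := exists_pow_separating T (ι Δ) (ι t₁) hΔT
  obtain ⟨N₂, hN₂⟩ := exists_pow_separating T (ι Δ) (ι t₂) hΔT
  let N := max 1 (max N₁ N₂)
  obtain ⟨g, hg⟩ := exists_algHom_approx (R := R) (hG := hR.2.2.1) (C := C) (γ := γ) N (le_max_left _ _)
  haveI : IsLocalHom g.toRingHom := ⟨fun c hc => by
    refine (‹IsLocalHom γ.toRingHom›).map_nonunit c ?_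
    show IsUnit (γ c)
    by_contra hnu
    have h1 : γ c - ι (g c) ∈ maximalIdeal T := Ideal.pow_le_self (by omega) (hg c)
    have h2 := sub_mem (show γ c ∈ maximalIdeal T from hnu) h1
    rw [sub_sub_cancel] at h2
    exact h2 (hc.map ι)⟩
  obtain ⟨G, hG⟩ := exists_completion_hom C R g.toRingHom
  haveI : IsLocalHom G := by
    refine ⟨fun z hz => ?_⟩
    obtain ⟨c, hc⟩ := exists_sub_algebraMap_mem_pow C z 1
    by_contra hnu
    rw [pow_one] at hc
    have hcm : algebraMap C (AdicCompletion (maximalIdeal C) C) c ∈ maximalIdeal _ := by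
      have := sub_mem (show z ∈ maximalIdeal _ from hnu) hc
      rwa [sub_sub_cancel] at this
    have hle : (maximalIdeal (AdicCompletion (maximalIdeal C) C)).map G ≤ maximalIdeal T := by
      rw [AdicCompletion.maximalIdeal_eq_map, Ideal.map_map, hG, Ideal.map_le_iff_le_comap]
      intro a ha hu
      exact ha (IsLocalHom.map_nonunit (f := g.toRingHom) a (IsLocalHom.map_nonunit (f := ι) _ hu))
    exact hle (Ideal.mem_map_of_mem G (show z ∈ maximalIdeal _ from hnu)) hz
  have hagree : ∀ z, G z - G0 z ∈ maximalIdeal T ^ N := sub_mem_pow_of_agree G G0 N fun c => by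
    rw [show G (algebraMap C _ c) = ι (g c) from RingHom.congr_fun hG c]
    have := neg_mem (hg c)
    rwa [neg_sub] at this
  refine ⟨g, G, hG, ?_⟩
  let x := ψ.symm (Ideal.Quotient.mk _ (X 0))
  let y := ψ.symm (Ideal.Quotient.mk _ (X 1))
  have hxy : G x * G y = ι Δ := by
    rw [← map_mul]
    have : x * y = algebraMap C _ (algebraMap R C Δ) := by
      apply ψ.injective
      rw [map_mul, RingEquiv.apply_symm_apply, RingEquiv.apply_symm_apply, ← map_mul]
      refine Eq.trans ?_ (RingHom.congr_fun hψ Δ).symm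
      exact Ideal.Quotient.eq.mpr (Ideal.mem_span_singleton_self _)
    rw [this, show G (algebraMap C _ (algebraMap R C Δ)) = ι (g (algebraMap R C Δ)) from RingHom.congr_fun hG _,
      AlgHom.commutes]
    rfl
  have hx0 : G0 x = ι t₁ := by
    show φq (ψ (ψ.symm _)) = _
    rw [RingEquiv.apply_symm_apply]; exact hφ 0
  have hy0 : G0 y = ι t₂ := by
    show φq (ψ (ψ.symm _)) = _
    rw [RingEquiv.apply_symm_apply]; exact hφ 1
  have hd1 : G x ∣ ι t₁ := hN₁ _ ⟨G y, hxy.symm⟩ (Ideal.pow_le_pow_right (le_trans (le_max_left _ _) (le_max_right _ _))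
    (hx0 ▸ hagree x))
  have hd2 : G y ∣ ι t₂ := hN₂ _ ⟨G x, by rw [← hxy, mul_comm]⟩ (Ideal.pow_le_pow_right (le_trans (le_max_right _ _) (le_max_right _ _))
    (hy0 ▸ hagree y))
  obtain ⟨u, hu⟩ := hd1
  obtain ⟨v, hv⟩ := hd2
  have huv : u * v = 1 := by
    refine mul_left_cancel₀ hΔT ?_
    rw [mul_one]
    conv_rhs => rw [← ht, map_mul, hu, hv]
    rw [← hxy]; ring
  refine ⟨?_, ?_⟩
  · exact Ideal.span_singleton_eq_span_singleton.mpr ⟨⟨u, v, huv, by rw [mul_comm, huv]⟩, hu.symm⟩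
  · exact Ideal.span_singleton_eq_span_singleton.mpr ⟨⟨v, u, by rw [mul_comm, huv], huv⟩, hv.symm⟩

end Groth.L05.NodeRetract
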